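import Groth.Agent.Lib.Helper3.RepDesc.Rep
import Groth.Agent.Lib.Helper5.AlgSp.RepOver
import Groth.Agent.Lib.Helper5.AlgSp.LocalBase
import Mathlib

/-!
# Representability from a chart and effective descent (helper3)
-/

set_option autoImplicit false

universe u

open CategoryTheory CategoryTheory.Limits AlgebraicGeometry Opposite

namespace Groth.Agent.H3.RepDesc

open _root_.AlgSp Groth.Agent.H5.AlgSp Groth.Agent.H3.IQA Groth.Agent.H3.DescSh Desc

variable {S : Scheme.{u}}

/-- If `f : G ⟶ F` becomes representable by a scheme with property `P` after base change along an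
étale surjective chart of `F`, and descent data with property `P` are effective along fppf
morphisms, then `f` is representable. -/
theorem representable_of_chart (P : MorphismProperty Scheme.{u}) [P.IsStableUnderBaseChange]
    (hdesc : ∀ ⦃X' S' : Scheme.{u}⦄ (p : X' ⟶ S'), Surjective p → Flat p →
      LocallyOfFinitePresentation p →
      ∀ D : Desc.SchDD p, P D.obj.hom → (Desc.toDD p).essImage D)
    {F G : Sp S} (f : G ⟶ F) {U V : Over S} (q : (yon S).obj U ⟶ F)
    (hqe : RepWith @Etale q) (hqs : RepWith @Surjective q) (fst : (yon S).obj V ⟶ G)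
    (g : V ⟶ U) (sq : IsPullback fst ((yon S).map g) f q) (hP : P g.left) :
    Representable f := by
  have : P.RespectsIso := MorphismProperty.IsStableUnderBaseChange.respectsIso
  intro T t
  have hr := hqe.rep
  have sqT := hr.isPullback t
  have hc1 : Etale (hr.snd t).left := hqe.property _ _ _ sqT
  have hc2 : Surjective (hr.snd t).left := hqs.property _ _ _ sqT
  have hc3 : Flat (hr.snd t).left := inferInstance
  have hc4 : LocallyOfFinitePresentation (hr.snd t).left := inferInstance
  obtain ⟨b₀, hb₀⟩ := (yon S).map_surjective (hr.fst t)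
  rw [← hb₀] at sqT
  have hPv : P (pullback.snd g b₀).left :=
    (left_pullback_snd_iff P g b₀).2 (MorphismProperty.pullback_snd _ _ hP)
  have A := (IsPullback.of_hasPullback g b₀).map (yon S)
  have big := A.paste_horiz sq
  rw [sqT.w] at big
  have C := IsPullback.of_hasPullback f t
  have hu : ((yon S).map (pullback.fst g b₀) ≫ fst) ≫ f =
      ((yon S).map (pullback.snd g b₀) ≫ (yon S).map (hr.snd t)) ≫ t := by
    rw [Category.assoc]
    exact big.w
  have sq' : IsPullback (pullback.lift _ _ hu) ((yon S).map (pullback.snd g b₀))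
      (pullback.snd f t) ((yon S).map (hr.snd t)) := by
    apply IsPullback.of_right (h₁₂ := pullback.fst f t) (h₂₂ := t) _ _ C
    · rw [pullback.lift_fst]
      exact big
    · exact pullback.lift_snd _ _ _
  obtain ⟨W, w, ψ, hiso, hψπ⟩ := exists_iso_of_effective sq'
    (hdesc (hr.snd t).left hc2 hc3 hc4 (ddOfSq sq') hPv)
  refine ⟨W, w, ψ ≫ pullback.fst f t, ?_⟩
  refine IsPullback.of_iso C (asIso ψ).symm (Iso.refl _) (Iso.refl _) (Iso.refl _) ?_ ?_ ?_ ?_
  · simp
  · simp [← hψπ]
  · simp
  · simp

/-- **S9894.** -/
theorem repWith_of_chart_of_effective_descent (P : MorphismProperty Scheme.{u})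
    [P.IsStableUnderBaseChange] [P.IsLocalAtTarget Scheme.fppfPrecoverage]
    (hdesc : ∀ ⦃X' S' : Scheme.{u}⦄ (p : X' ⟶ S'), Surjective p → Flat p →
      LocallyOfFinitePresentation p →
      ∀ D : Desc.SchDD p, P D.obj.hom → (Desc.toDD p).essImage D)
    (F : Space S) (G : Sp S) (f : G ⟶ F.obj) {U V : Over S} (q : (yon S).obj U ⟶ F.obj)
    (hqe : RepWith @Etale q) (hqs : RepWith @Surjective q) (fst : (yon S).obj V ⟶ G)
    (g : V ⟶ U) (sq : IsPullback fst ((yon S).map g) f q) (hP : P g.left) :
    IsAlgSpace G ∧ RepWith P f := by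
  have hrep := representable_of_chart P hdesc f q hqe hqs fst g sq hP
  have hls : Sheaf.IsLocallySurjective q := isLocallySurjective_of_etale_surjective q hqe hqs
  have hPg : RepWith P ((yon S).map g) := (repWith_yon_map_iff P g).2 hP
  exact ⟨isAlgSpace_of_representable F.property f hrep,
    repWith_of_locallySurjective_baseChange f hrep q fst ((yon S).map g) sq P hPg⟩

end Groth.Agent.H3.RepDesc
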