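import Groth.Agent.Lib.Helper3.IQA.Setup
import Mathlib

/-!
# The descent datum attached to a sheaf which becomes representable after base change (helper3)

`F` a sheaf over `h_T`, `c : T' ⟶ T` and `h_V = F ×_{h_T} h_{T'}`.  Then `V ⟶ T'` carries a
canonical descent datum relative to `c`.
-/

set_option autoImplicit false

universe u

open CategoryTheory CategoryTheory.Limits AlgebraicGeometry Opposite

namespace Groth.Agent.H3.RepDesc

open _root_.AlgSp Groth.Agent.H5.AlgSp Groth.Agent.H3.IQA Desc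

variable {S : Scheme.{u}} {T T' V : Over S} {c : T' ⟶ T} {v : V ⟶ T'} {F : Sp S}
  {π : F ⟶ (yon S).obj T} {u : (yon S).obj V ⟶ F}

/-- Two scheme-level points of `V` have the same image in `F`. -/
def SameImage (u : (yon S).obj V ⟶ F) {Z : Scheme.{u}} (k l : Z ⟶ V.left) : Prop :=
  ∃ (zs : Z ⟶ S) (hk : k ≫ V.hom = zs) (hl : l ≫ V.hom = zs),
    (yon S).map (Over.homMk k hk : Over.mk zs ⟶ V) ≫ u =
      (yon S).map (Over.homMk l hl : Over.mk zs ⟶ V) ≫ u

lemma sameImage_iff {Z : Over S} (k l : Z ⟶ V) :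
    SameImage u k.left l.left ↔ (yon S).map k ≫ u = (yon S).map l ≫ u := by
  constructor
  · rintro ⟨zs, hk, hl, h⟩
    have e : zs = Z.hom := hk.symm.trans (Over.w k)
    subst e
    exact h
  · intro h
    exact ⟨Z.hom, Over.w k, Over.w l, h⟩

lemma SameImage.refl {Z : Scheme.{u}} (l : Z ⟶ V.left) : SameImage u l l :=
  ⟨l ≫ V.hom, rfl, rfl, rfl⟩

lemma SameImage.symm {Z : Scheme.{u}} {k l : Z ⟶ V.left} (h : SameImage u k l) :
    SameImage u l k := by
  obtain ⟨zs, hk, hl, h⟩ := h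
  exact ⟨zs, hl, hk, h.symm⟩

lemma SameImage.trans {Z : Scheme.{u}} {k l m : Z ⟶ V.left} (h : SameImage u k l)
    (h' : SameImage u l m) : SameImage u k m := by
  obtain ⟨zs, hk, hl, h⟩ := h
  obtain ⟨zs', hl', hm, h'⟩ := h'
  have e : zs = zs' := hl.symm.trans hl'
  subst e
  exact ⟨zs, hk, hm, h.trans h'⟩

lemma SameImage.precomp {Z Z' : Scheme.{u}} (g : Z' ⟶ Z) {k l : Z ⟶ V.left}
    (h : SameImage u k l) : SameImage u (g ≫ k) (g ≫ l) := by
  obtain ⟨zs, hk, hl, h⟩ := h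
  refine ⟨g ≫ zs, by rw [Category.assoc, hk], by rw [Category.assoc, hl], ?_⟩
  have e1 : (Over.homMk (g ≫ k) (by rw [Category.assoc, hk]; rfl) : Over.mk (g ≫ zs) ⟶ V) =
      (Over.homMk g rfl : Over.mk (g ≫ zs) ⟶ Over.mk zs) ≫ Over.homMk k hk := by
    ext; rfl
  have e2 : (Over.homMk (g ≫ l) (by rw [Category.assoc, hl]; rfl) : Over.mk (g ≫ zs) ⟶ V) =
      (Over.homMk g rfl : Over.mk (g ≫ zs) ⟶ Over.mk zs) ≫ Over.homMk l hl := by
    ext; rfl
  rw [e1, e2, Functor.map_comp, Functor.map_comp, Category.assoc, Category.assoc, h]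

variable (sq : IsPullback u ((yon S).map v) π ((yon S).map c))

include sq in
/-- Existence of the transport of a point of `V` to a point over `x₁`. -/
lemma exists_tr {Z : Scheme.{u}} (x₁ : Z ⟶ T'.left) (l : Z ⟶ V.left)
    (hx : x₁ ≫ c.left = l ≫ v.left ≫ c.left) :
    ∃ k : Z ⟶ V.left, k ≫ v.left = x₁ ∧ SameImage u k l := by
  have hx₁S : x₁ ≫ T'.hom = l ≫ V.hom := by
    rw [← Over.w c, ← Category.assoc, hx, ← Over.w v, ← Over.w c]
    simp only [Category.assoc]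
  let lO : Over.mk (l ≫ V.hom) ⟶ V := Over.homMk l rfl
  let xO : Over.mk (l ≫ V.hom) ⟶ T' := Over.homMk x₁ hx₁S
  have hcomp : lO ≫ v ≫ c = xO ≫ c := by
    ext
    exact hx.symm
  have compat : ((yon S).map lO ≫ u) ≫ π = (yon S).map xO ≫ (yon S).map c := by
    rw [Category.assoc, sq.w, ← Functor.map_comp, ← Functor.map_comp, ← Functor.map_comp, hcomp]
  let kO : Over.mk (l ≫ V.hom) ⟶ V := (yon S).preimage (sq.lift _ _ compat)
  have hk1 : (yon S).map kO ≫ u = (yon S).map lO ≫ u := by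
    rw [Functor.map_preimage, sq.lift_fst]
  have hk2 : kO ≫ v = xO := by
    apply (yon S).map_injective
    rw [Functor.map_comp, Functor.map_preimage, sq.lift_snd]
  refine ⟨kO.left, congrArg (fun m => m.left) hk2, ?_⟩
  exact (sameImage_iff kO lO).2 hk1

include sq in
lemma tr_unique {Z : Scheme.{u}} {x₁ : Z ⟶ T'.left} {l k k' : Z ⟶ V.left}
    (hk : k ≫ v.left = x₁) (hk' : k' ≫ v.left = x₁) (h : SameImage u k l)
    (h' : SameImage u k' l) : k = k' := by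
  obtain ⟨zs, hk1, hk2, e⟩ := h.trans h'.symm
  have := hext sq (Over.homMk k hk1 : Over.mk zs ⟶ V) (Over.homMk k' hk2) e (by
    ext
    exact hk.trans hk'.symm)
  exact congrArg (fun m => m.left) this

/-- The transport of a point of `V` to a point over `x₁`. -/
noncomputable def tr {Z : Scheme.{u}} (x₁ : Z ⟶ T'.left) (l : Z ⟶ V.left)
    (hx : x₁ ≫ c.left = l ≫ v.left ≫ c.left) : Z ⟶ V.left :=
  (exists_tr sq x₁ l hx).choose

lemma tr_v {Z : Scheme.{u}} (x₁ : Z ⟶ T'.left) (l : Z ⟶ V.left)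
    (hx : x₁ ≫ c.left = l ≫ v.left ≫ c.left) : tr sq x₁ l hx ≫ v.left = x₁ :=
  (exists_tr sq x₁ l hx).choose_spec.1

lemma tr_same {Z : Scheme.{u}} (x₁ : Z ⟶ T'.left) (l : Z ⟶ V.left)
    (hx : x₁ ≫ c.left = l ≫ v.left ≫ c.left) : SameImage u (tr sq x₁ l hx) l :=
  (exists_tr sq x₁ l hx).choose_spec.2

lemma tr_eq {Z : Scheme.{u}} (x₁ : Z ⟶ T'.left) (l k : Z ⟶ V.left)
    (hx : x₁ ≫ c.left = l ≫ v.left ≫ c.left) (hk : k ≫ v.left = x₁) (h : SameImage u k l) :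
    tr sq x₁ l hx = k :=
  tr_unique sq (tr_v sq x₁ l hx) hk (tr_same sq x₁ l hx) h

lemma lifts_cond {Z : Scheme.{u}} {x₀ x₁ : Z ⟶ T'.left} (h : x₀ ≫ c.left = x₁ ≫ c.left)
    (l : Lifts (Over.mk v.left) x₀) : x₁ ≫ c.left = l.1 ≫ v.left ≫ c.left := by
  have e : l.1 ≫ v.left = x₀ := l.2
  rw [← Category.assoc, e, h]

/-- Transport of lifts. -/
noncomputable def trL {Z : Scheme.{u}} {x₀ x₁ : Z ⟶ T'.left} (h : x₀ ≫ c.left = x₁ ≫ c.left)
    (l : Lifts (Over.mk v.left) x₀) : Lifts (Over.mk v.left) x₁ :=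
  ⟨tr sq x₁ l.1 (lifts_cond h l), tr_v sq _ _ _⟩

lemma trL_val {Z : Scheme.{u}} {x₀ x₁ : Z ⟶ T'.left} (h : x₀ ≫ c.left = x₁ ≫ c.left)
    (l : Lifts (Over.mk v.left) x₀) : (trL sq h l).1 = tr sq x₁ l.1 (lifts_cond h l) := rfl

lemma trL_same {Z : Scheme.{u}} {x₀ x₁ : Z ⟶ T'.left} (h : x₀ ≫ c.left = x₁ ≫ c.left)
    (l : Lifts (Over.mk v.left) x₀) : SameImage u (trL sq h l).1 l.1 :=
  tr_same sq x₁ l.1 (lifts_cond h l)

lemma trL_eq {Z : Scheme.{u}} {x₀ x₁ : Z ⟶ T'.left} (h : x₀ ≫ c.left = x₁ ≫ c.left)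
    (l : Lifts (Over.mk v.left) x₀) (k : Lifts (Over.mk v.left) x₁)
    (hs : SameImage u k.1 l.1) : trL sq h l = k :=
  Subtype.ext (tr_eq sq _ _ _ (lifts_cond h l) k.2 hs)

/-- The descent datum on `V ⟶ T'` relative to `c`. -/
noncomputable def ddOfSq : SchDD c.left where
  obj := Over.mk v.left
  φ Z x₀ x₁ h :=
    { toFun := trL sq h
      invFun := trL sq h.symm
      left_inv := fun l => trL_eq sq h.symm (trL sq h l) l (trL_same sq h l).symm
      right_inv := fun l => trL_eq sq h (trL sq h.symm l) l (trL_same sq h.symm l).symm }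
  φ_natural Z Z' g x₀ x₁ h h' l l' hl' := by
    change (trL sq h' l').1 = g ≫ (trL sq h l).1
    have hk : (g ≫ (trL sq h l).1) ≫ v.left = g ≫ x₁ := by
      rw [Category.assoc]
      exact congrArg (g ≫ ·) (trL sq h l).2
    have := trL_eq sq h' l' ⟨g ≫ (trL sq h l).1, hk⟩ (by
      change SameImage u (g ≫ (trL sq h l).1) l'.1
      rw [hl']
      exact (trL_same sq h l).precomp g)
    exact congrArg Subtype.val this
  φ_self Z x l := trL_eq sq rfl l l (SameImage.refl _)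
  φ_comp Z x₀ x₁ x₂ h₀₁ h₁₂ l :=
    trL_eq sq h₁₂ (trL sq h₀₁ l) (trL sq (h₀₁.trans h₁₂) l)
      ((trL_same sq (h₀₁.trans h₁₂) l).trans (trL_same sq h₀₁ l).symm)

@[simp] lemma ddOfSq_obj : (ddOfSq sq).obj = Over.mk v.left := rfl

lemma ddOfSq_φ_val {Z : Scheme.{u}} (x₀ x₁ : Z ⟶ T'.left) (h : x₀ ≫ c.left = x₁ ≫ c.left)
    (l : Lifts (Over.mk v.left) x₀) :
    (ddOfSq sq).φ x₀ x₁ h l = trL sq h l := rfl

end Groth.Agent.H3.RepDesc
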