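import Groth.Agent.Lib.Helper3.RepDesc.DD
import Groth.Agent.Lib.Helper5.AlgSp.MonoDesc
import Mathlib

/-!
# Effective descent implies representability (helper3)
-/

set_option autoImplicit false

universe u

open CategoryTheory CategoryTheory.Limits AlgebraicGeometry Opposite

namespace Groth.Agent.H3.RepDesc

open _root_.AlgSp Groth.Agent.H5.AlgSp Groth.Agent.H3.IQA Groth.Agent.H3.DescSh Desc

variable {S : Scheme.{u}}

section fppf

variable {F : Sp S} {T T' : Over S} (c : T' ⟶ T)

lemma generate_singleton_mem_J [Flat c.left] [Surjective c.left]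
    [LocallyOfFinitePresentation c.left] :
    Sieve.generate (Presieve.singleton c) ∈ J S T :=
  mem_J_of_fppf c inferInstance inferInstance inferInstance _
    ⟨_, 𝟙 _, c, Presieve.singleton.mk, Category.id_comp _⟩

/-- Uniqueness for fppf descent of sections. -/
theorem hom_ext_fppf [Flat c.left] [Surjective c.left] [LocallyOfFinitePresentation c.left]
    (s₁ s₂ : (yon S).obj T ⟶ F) (h : (yon S).map c ≫ s₁ = (yon S).map c ≫ s₂) : s₁ = s₂ := by
  apply yon_hom_ext_of_mem_J (generate_singleton_mem_J c)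
  rintro Z g ⟨Y, g', c', ⟨⟩, rfl⟩
  rw [Functor.map_comp, Category.assoc, Category.assoc, h]

/-- Existence for fppf descent of sections. -/
theorem exists_desc_fppf [Flat c.left] [Surjective c.left] [LocallyOfFinitePresentation c.left]
    (s' : (yon S).obj T' ⟶ F)
    (h : ∀ {Z : Over S} (g₁ g₂ : Z ⟶ T'), g₁ ≫ c = g₂ ≫ c →
      (yon S).map g₁ ≫ s' = (yon S).map g₂ ≫ s') :
    ∃ s : (yon S).obj T ⟶ F, (yon S).map c ≫ s = s' := by
  have hF : Presieve.IsSheaf (J S) F.obj := (isSheaf_iff_isSheaf_of_type _ _).1 F.property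
  have hsh : Presieve.IsSheafFor F.obj (Presieve.singleton c) :=
    (Presieve.isSheafFor_iff_generate _).2 (hF _ (generate_singleton_mem_J c))
  let x : Presieve.FamilyOfElements F.obj (Presieve.singleton c) :=
    (Presieve.FamilyOfElements.singletonEquiv F.obj c).symm (yEquiv F T' s')
  have hxc : x c ⟨⟩ = yEquiv F T' s' :=
    Presieve.FamilyOfElements.singletonEquiv_symm_apply_self c _
  have hx : x.Compatible := by
    rw [Presieve.FamilyOfElements.compatible_singleton_iff]
    intro Z p₁ p₂ hp
    rw [hxc, yEquiv_map, yEquiv_map, h p₁ p₂ hp]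
  obtain ⟨t, ht, -⟩ := hsh x hx
  rw [Presieve.FamilyOfElements.isAmalgamation_singleton_iff, hxc] at ht
  refine ⟨(yEquiv F T).symm t, ?_⟩
  apply (yEquiv F T').injective
  rw [← yEquiv_map, Equiv.apply_symm_apply, ht]

lemma fppf_pullback_snd [Flat c.left] [Surjective c.left] [LocallyOfFinitePresentation c.left]
    {Z : Over S} (z : Z ⟶ T) :
    Flat (pullback.snd c z).left ∧ Surjective (pullback.snd c z).left ∧
      LocallyOfFinitePresentation (pullback.snd c z).left := by
  refine ⟨?_, ?_, ?_⟩
  · exact (left_pullback_snd_iff @Flat c z).2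
      (MorphismProperty.pullback_snd (P := @Flat) _ _ inferInstance)
  · exact (left_pullback_snd_iff @Surjective c z).2
      (MorphismProperty.pullback_snd (P := @Surjective) _ _ inferInstance)
  · exact (left_pullback_snd_iff @LocallyOfFinitePresentation c z).2
      (MorphismProperty.pullback_snd (P := @LocallyOfFinitePresentation) _ _ inferInstance)

lemma epi_of_fppf [Flat c.left] [Surjective c.left] [LocallyOfFinitePresentation c.left] :
    Epi c := by
  have : Epi ((Over.forget S).map c) := by
    change Epi c.left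
    infer_instance
  exact (Over.forget S).epi_of_epi_map this

end fppf

section main

variable {T T' V : Over S} {c : T' ⟶ T} {v : V ⟶ T'} {F : Sp S}
  {π : F ⟶ (yon S).obj T} {u : (yon S).obj V ⟶ F}
  (sq : IsPullback u ((yon S).map v) π ((yon S).map c))

/-- **Effective descent implies representability.** If the descent datum on `V ⟶ T'` attached to
the sheaf `F` over `h_T` is effective, then `F` is representable, compatibly with the maps to
`h_T`. -/
theorem exists_iso_of_effective [Flat c.left] [Surjective c.left]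
    [LocallyOfFinitePresentation c.left] (heff : (toDD c.left).essImage (ddOfSq sq)) :
    ∃ (W : Over S) (w : W ⟶ T) (ψ : (yon S).obj W ⟶ F), IsIso ψ ∧ ψ ≫ π = (yon S).map w := by
  obtain ⟨W₀, ⟨E⟩⟩ := heff
  -- the isomorphism `X ×_S W₀ ≅ V`
  let ε : pullback c.left W₀.hom ⟶ V.left := E.hom.hom.left
  let εi : V.left ⟶ pullback c.left W₀.hom := E.inv.hom.left
  have hεv : ε ≫ v.left = pullback.fst c.left W₀.hom := Over.w E.hom.hom
  have hεiv : εi ≫ pullback.fst c.left W₀.hom = v.left := Over.w E.inv.hom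
  have hεεi : ε ≫ εi = 𝟙 _ := by
    have := congrArg (fun m => m.hom.left) E.hom_inv_id
    exact this
  have hεiε : εi ≫ ε = 𝟙 _ := by
    have := congrArg (fun m => m.hom.left) E.inv_hom_id
    exact this
  -- objects over `S`
  let W : Over S := Over.mk (W₀.hom ≫ T.hom)
  let w : W ⟶ T := Over.homMk W₀.hom rfl
  let W' : Over S := Over.mk (pullback.fst c.left W₀.hom ≫ T'.hom)
  let w' : W' ⟶ T' := Over.homMk (pullback.fst c.left W₀.hom) rfl
  have hrS : pullback.snd c.left W₀.hom ≫ W₀.hom ≫ T.hom =
      pullback.fst c.left W₀.hom ≫ T'.hom := by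
    rw [← Category.assoc, ← pullback.condition, Category.assoc, Over.w c]
  let r : W' ⟶ W := Over.homMk (pullback.snd c.left W₀.hom) hrS
  have hεS : ε ≫ V.hom = pullback.fst c.left W₀.hom ≫ T'.hom := by
    rw [← Over.w v, ← Category.assoc, hεv]
  let εO : W' ⟶ V := Over.homMk ε hεS
  have hεiS : εi ≫ pullback.fst c.left W₀.hom ≫ T'.hom = V.hom := by
    rw [← Category.assoc, hεiv, Over.w v]
  let εiO : V ⟶ W' := Over.homMk εi hεiS
  have hεOv : εO ≫ v = w' := by
    ext
    exact hεv
  have hεiεO : εiO ≫ εO = 𝟙 V := by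
    ext
    exact hεiε
  have hεεiO : εO ≫ εiO = 𝟙 W' := by
    ext
    exact hεεi
  have hw'c : w' ≫ c = r ≫ w := by
    ext
    exact pullback.condition
  have pbW : IsPullback w' r c w :=
    IsPullback.of_map (Over.forget S) hw'c (IsPullback.of_hasPullback c.left W₀.hom)
  have hr1 : Flat r.left := inferInstanceAs (Flat (pullback.snd c.left W₀.hom))
  have hr2 : Surjective r.left := inferInstanceAs (Surjective (pullback.snd c.left W₀.hom))
  have hr3 : LocallyOfFinitePresentation r.left :=
    inferInstanceAs (LocallyOfFinitePresentation (pullback.snd c.left W₀.hom))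
  -- the descent condition
  have hcond : ∀ {Z : Over S} (g₁ g₂ : Z ⟶ W'), g₁ ≫ r = g₂ ≫ r →
      (yon S).map g₁ ≫ (yon S).map εO ≫ u = (yon S).map g₂ ≫ (yon S).map εO ≫ u := by
    intro Z g₁ g₂ hg
    rw [← Functor.map_comp_assoc, ← Functor.map_comp_assoc]
    apply (sameImage_iff (g₁ ≫ εO) (g₂ ≫ εO)).1
    have hg' : g₁.left ≫ pullback.snd c.left W₀.hom = g₂.left ≫ pullback.snd c.left W₀.hom :=
      congrArg (fun m => m.left) hg
    have hx : (g₁.left ≫ pullback.fst c.left W₀.hom) ≫ c.left =
        (g₂.left ≫ pullback.fst c.left W₀.hom) ≫ c.left := by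
      rw [Category.assoc, Category.assoc, pullback.condition, ← Category.assoc, hg',
        Category.assoc]
    let a : Lifts ((toDD c.left).obj W₀).obj (g₁.left ≫ pullback.fst c.left W₀.hom) :=
      ⟨g₁.left, rfl⟩
    let wv : Lifts (ddOfSq sq).obj (g₁.left ≫ pullback.fst c.left W₀.hom) :=
      ⟨g₁.left ≫ ε, by
        change (g₁.left ≫ ε) ≫ v.left = _
        rw [Category.assoc, hεv]⟩
    have hcomm := E.hom.comm _ _ hx a wv rfl
    have h1 : (((toDD c.left).obj W₀).φ _ _ hx a).1 = g₂.left := by
      apply pullback.hom_ext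
      · exact pullback.lift_fst _ _ _
      · exact (pullback.lift_snd _ _ _).trans hg'
    rw [h1] at hcomm
    have h2 : SameImage u ((ddOfSq sq).φ _ _ hx wv).1 wv.1 := trL_same sq hx wv
    rw [hcomm] at h2
    exact h2.symm
  obtain ⟨ψ, hψ⟩ := exists_desc_fppf r ((yon S).map εO ≫ u) hcond
  have hψπ : ψ ≫ π = (yon S).map w := by
    apply hom_ext_fppf r
    rw [← Category.assoc, hψ, Category.assoc, sq.w, ← Functor.map_comp, ← Functor.map_comp,
      ← Functor.map_comp, ← Category.assoc, hεOv, hw'c]
  -- `ψ` is a monomorphism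
  have hmono : Mono ψ := by
    apply mono_of_yon
    intro Z a b hab
    obtain ⟨a₀, rfl⟩ := (yon S).map_surjective a
    obtain ⟨b₀, rfl⟩ := (yon S).map_surjective b
    have hw : a₀ ≫ w = b₀ ≫ w := by
      apply (yon S).map_injective
      rw [Functor.map_comp, Functor.map_comp, ← hψπ, ← Category.assoc, hab, Category.assoc]
    obtain ⟨f1, f2, f3⟩ := fppf_pullback_snd c (a₀ ≫ w)
    have hepi : Epi (pullback.snd c (a₀ ≫ w)) := epi_of_fppf _
    have ha : pullback.fst c (a₀ ≫ w) ≫ c = (pullback.snd c (a₀ ≫ w) ≫ a₀) ≫ w := by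
      rw [Category.assoc]
      exact pullback.condition
    have hb : pullback.fst c (a₀ ≫ w) ≫ c = (pullback.snd c (a₀ ≫ w) ≫ b₀) ≫ w := by
      rw [Category.assoc, ← hw]
      exact pullback.condition
    have key : pbW.lift _ _ ha ≫ εO = pbW.lift _ _ hb ≫ εO := by
      apply hext sq
      · rw [Functor.map_comp, Functor.map_comp, Category.assoc, Category.assoc, ← hψ,
          ← Functor.map_comp_assoc, ← Functor.map_comp_assoc, pbW.lift_snd, pbW.lift_snd,
          Functor.map_comp, Functor.map_comp, Category.assoc, Category.assoc, hab]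
      · rw [Category.assoc, Category.assoc, hεOv, pbW.lift_fst, pbW.lift_fst]
    have key2 : pbW.lift _ _ ha = pbW.lift _ _ hb := by
      have := congrArg (· ≫ εiO) key
      simpa only [Category.assoc, hεεiO, Category.comp_id] using this
    have key3 : pullback.snd c (a₀ ≫ w) ≫ a₀ = pullback.snd c (a₀ ≫ w) ≫ b₀ := by
      rw [← pbW.lift_snd _ _ ha, key2, pbW.lift_snd]
    rw [(cancel_epi _).1 key3]
  -- `ψ` is locally surjective
  have hsurj : Sheaf.IsLocallySurjective ψ := by
    refine ⟨fun {Z} s => ?_⟩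
    let ξ : (yon S).obj Z ⟶ F := (yEquiv F Z).symm s
    obtain ⟨z, hz⟩ := (yon S).map_surjective (ξ ≫ π)
    obtain ⟨f1, f2, f3⟩ := fppf_pullback_snd c z
    have compat : ((yon S).map (pullback.snd c z) ≫ ξ) ≫ π =
        (yon S).map (pullback.fst c z) ≫ (yon S).map c := by
      rw [Category.assoc, ← hz, ← Functor.map_comp, ← Functor.map_comp, pullback.condition]
    obtain ⟨l, hl⟩ := (yon S).map_surjective (sq.lift _ _ compat)
    have hl1 : (yon S).map l ≫ u = (yon S).map (pullback.snd c z) ≫ ξ := by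
      rw [hl, sq.lift_fst]
    apply mem_J_of_fppf (pullback.snd c z) f1 f3 f2
    refine ⟨yEquiv _ _ ((yon S).map (l ≫ εiO ≫ r)), ?_⟩
    have h1 : (yon S).map (l ≫ εiO ≫ r) ≫ ψ = (yon S).map (pullback.snd c z) ≫ ξ := by
      have e1 : l ≫ εiO ≫ r = (l ≫ εiO) ≫ r := (Category.assoc _ _ _).symm
      rw [e1, Functor.map_comp, Category.assoc, hψ, ← Functor.map_comp_assoc, Category.assoc,
        hεiεO, Category.comp_id, hl1]
    have h2 := congrArg (yEquiv F _) h1
    rw [yEquiv_comp] at h2
    rw [h2]
    change (J S).uliftYonedaEquiv ((yon S).map (pullback.snd c z) ≫ ξ) = _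
    rw [← (J S).uliftYonedaEquiv_naturality]
    simp [ξ]
  have hiso : IsIso ψ := isIso_of_mono_of_isLocallySurjective ψ
  exact ⟨W, w, ψ, hiso, hψπ⟩

end main

end Groth.Agent.H3.RepDesc
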